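import Mathlib
import Groth.Prelude.Def_CAlg
import Groth.Agent.H29.CM
import Groth.Agent.H15.DepthLoc

/-!
# Generic behaviour of depth and dimension along `V(p)`: basics

`Gen p Q` : the property `Q` holds at all primes `q ⊇ p` of a basic open neighbourhood of `p`.
-/

set_option autoImplicit false
set_option linter.unusedSectionVars false
set_option linter.style.haveILetI false
universe u

open IsLocalRing

namespace Groth.Agent.H58.GenDepth

variable {A : Type u} [CommRing A] [IsNoetherianRing A] (p : Ideal A) [hp : p.IsPrime]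

/-- `Q` holds generically along `V(p)`. -/
def Gen (Q : ∀ q : Ideal A, q.IsPrime → Prop) : Prop :=
  ∃ f : A, f ∉ p ∧ ∀ (q : Ideal A) (hq : q.IsPrime), p ≤ q → f ∉ q → Q q hq

variable {p}

theorem Gen.mono {Q Q' : ∀ q : Ideal A, q.IsPrime → Prop} (h : Gen p Q)
    (hQ : ∀ (q : Ideal A) (hq : q.IsPrime), p ≤ q → Q q hq → Q' q hq) : Gen p Q' := by
  obtain ⟨f, hf, h⟩ := h
  exact ⟨f, hf, fun q hq hpq hfq => hQ q hq hpq (h q hq hpq hfq)⟩

theorem Gen.and {Q Q' : ∀ q : Ideal A, q.IsPrime → Prop} (h : Gen p Q) (h' : Gen p Q') :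
    Gen p (fun q hq => Q q hq ∧ Q' q hq) := by
  obtain ⟨f, hf, h⟩ := h
  obtain ⟨g, hg, h'⟩ := h'
  refine ⟨f * g, fun hfg => (hp.mem_or_mem hfg).elim hf hg, fun q hq hpq hfq => ⟨?_, ?_⟩⟩
  · exact h q hq hpq (fun hf' => hfq (q.mul_mem_right g hf'))
  · exact h' q hq hpq (fun hg' => hfq (q.mul_mem_left f hg'))

theorem Gen.of_forall {Q : ∀ q : Ideal A, q.IsPrime → Prop}
    (h : ∀ (q : Ideal A) (hq : q.IsPrime), p ≤ q → Q q hq) : Gen p Q :=
  ⟨1, fun h1 => hp.ne_top ((Ideal.eq_top_iff_one p).mpr h1), fun q hq hpq _ => h q hq hpq⟩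

/-- a generic property holds at `p` itself -/
theorem Gen.self {Q : ∀ q : Ideal A, q.IsPrime → Prop} (h : Gen p Q) : Q p hp := by
  obtain ⟨f, hf, h⟩ := h
  exact h p hp le_rfl hf

variable (p)

/-- depth of the localization at `q` -/
noncomputable abbrev dep (N : Type u) [AddCommGroup N] [Module A N] (q : Ideal A) [q.IsPrime] : ℕ∞ :=
  LocCoh.depth (Localization.AtPrime q) (LocalizedModule q.primeCompl N)

/-- dimension of the localization at `q` -/
noncomputable abbrev dm (N : Type u) [AddCommGroup N] [Module A N] (q : Ideal A) [q.IsPrime] :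
    WithBot ℕ∞ :=
  Module.supportDim (Localization.AtPrime q) (LocalizedModule q.primeCompl N)

section
variable (N : Type u) [AddCommGroup N] [Module A N] [Module.Finite A N]

/-- If `N_p = 0` then `N_q = 0` generically. -/
theorem gen_subsingleton (h : Subsingleton (LocalizedModule p.primeCompl N)) :
    Gen p (fun q _ => Subsingleton (LocalizedModule q.primeCompl N)) := by
  have h1 : (⟨p, hp⟩ : PrimeSpectrum A) ∉ Module.support A N := Module.notMem_support_iff.mpr h
  rw [Module.mem_support_iff_of_finite] at h1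
  obtain ⟨f, hfann, hfp⟩ := Set.not_subset.1 h1
  refine ⟨f, hfp, fun q hq _ hfq => ?_⟩
  have h2 : (⟨q, hq⟩ : PrimeSpectrum A) ∉ Module.support A N := by
    rw [Module.mem_support_iff_of_finite]
    exact fun hle => hfq (hle hfann)
  exact Module.notMem_support_iff.mp h2

/-- If `N_p ≠ 0` then `N_q ≠ 0` for all `q ⊇ p`. -/
theorem nontrivial_of_le (h : Nontrivial (LocalizedModule p.primeCompl N)) (q : Ideal A)
    [hq : q.IsPrime] (hpq : p ≤ q) : Nontrivial (LocalizedModule q.primeCompl N) := by
  have h1 : (⟨p, hp⟩ : PrimeSpectrum A) ∈ Module.support A N := by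
    by_contra hn
    exact not_subsingleton _ (Module.notMem_support_iff.mp hn)
  rw [Module.mem_support_iff_of_finite] at h1
  have h2 : (⟨q, hq⟩ : PrimeSpectrum A) ∈ Module.support A N := by
    rw [Module.mem_support_iff_of_finite]
    exact h1.trans hpq
  by_contra hn
  rw [not_nontrivial_iff_subsingleton] at hn
  exact (Module.notMem_support_iff.mpr hn) h2

end

end Groth.Agent.H58.GenDepth
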