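import Groth.Agent.H58.GenDepth.DepthMain

/-!
# Generic depth formula along `V(p)`: the induction
-/

set_option autoImplicit false
set_option linter.unusedSectionVars false
set_option linter.style.haveILetI false
universe u

open IsLocalRing RingTheory.Sequence

namespace Groth.Agent.H58.GenDepth

variable {A : Type u} [CommRing A] [IsNoetherianRing A] (p : Ideal A) [hp : p.IsPrime]

/-- the case `depth N_p ≥ 1` of the induction step -/
theorem step_pos (d : ℕ)
    (IH : ∀ d' : ℕ, d' < d → ∀ (N : Type u) [AddCommGroup N] [Module A N] [Module.Finite A N],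
      Nontrivial (LocalizedModule p.primeCompl N) → dm N p = d' →
      Gen p (fun q _ => dep N q = dep N p + dep (A ⧸ p) q))
    (N : Type u) [AddCommGroup N] [Module A N] [Module.Finite A N]
    (hN : Nontrivial (LocalizedModule p.primeCompl N)) (hd : dm N p = d)
    (h1 : (1 : ℕ∞) ≤ dep N p) :
    Gen p (fun q _ => dep N q = dep N p + dep (A ⧸ p) q) := by
  obtain ⟨x, hxp, hreg⟩ := exists_mem_isSMulRegular p N hN h1
  have hdm : dm (QuotSMulTop x N) p + 1 = dm N p := dm_quot_add_one N p x hxp hreg
  have hdep : dep (QuotSMulTop x N) p + 1 = dep N p := dep_quot_add_one N p x hxp hreg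
  rw [hd] at hdm
  have hN' := nontrivial_quot_of_dm N p x d hdm
  obtain ⟨d', hd'⟩ := exists_nat_dm_eq (QuotSMulTop x N) p hN'
  have hlt : d' < d := by
    rw [hd'] at hdm
    have : ((d' + 1 : ℕ) : WithBot ℕ∞) = (d : WithBot ℕ∞) := by exact_mod_cast hdm
    have h2 : d' + 1 = d := by exact_mod_cast this
    omega
  have G1 := IH d' hlt (QuotSMulTop x N) hN' hd'
  have G2 := gen_isSMulRegular p N x hreg
  refine (G1.and G2).mono (fun q hq hpq h => ?_)
  obtain ⟨h1q, h2q⟩ := h
  have h3 := dep_quot_add_one N q x (hpq hxp) h2q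
  rw [← h3, h1q, ← hdep]
  exact add_right_comm _ _ _

theorem depth_lemma_localized (N : Type u) [AddCommGroup N] [Module A N] [Module.Finite A N]
    (T : Submodule A N) [Module.Finite A T] (q : Ideal A) [q.IsPrime] :
    min (dep T q) (dep (N ⧸ T) q) ≤ dep N q ∧ min (dep N q) (dep (N ⧸ T) q + 1) ≤ dep T q := by
  obtain ⟨h1, -, h3⟩ := Groth.Agent.H2.DepthSES.depth_lemma
    (maximalIdeal (Localization.AtPrime q))
    (LocalizedModule.map q.primeCompl T.subtype) (LocalizedModule.map q.primeCompl T.mkQ)
    (LocalizedModule.map_injective _ _ T.injective_subtype)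
    (LocalizedModule.map_surjective _ _ T.mkQ_surjective)
    (localized_exact _ _ _ (LinearMap.exact_subtype_mkQ T))
  exact ⟨h1, h3⟩

/-- the case `depth N_p = 0` of the induction step -/
theorem step_zero (d : ℕ)
    (IH : ∀ d' : ℕ, d' < d → ∀ (N : Type u) [AddCommGroup N] [Module A N] [Module.Finite A N],
      Nontrivial (LocalizedModule p.primeCompl N) → dm N p = d' →
      Gen p (fun q _ => dep N q = dep N p + dep (A ⧸ p) q))
    (N : Type u) [AddCommGroup N] [Module A N] [Module.Finite A N]
    (hN : Nontrivial (LocalizedModule p.primeCompl N)) (hd : dm N p = d)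
    (h0 : dep N p = 0) :
    Gen p (fun q _ => dep N q = dep N p + dep (A ⧸ p) q) := by
  set T := DRing.torsionSub p N with hT
  haveI : IsNoetherian A N := isNoetherian_of_isNoetherianRing_of_finite A N
  haveI : Module.Finite A T := Module.IsNoetherian.finite A T
  have GT := gen_PD p T (suppCond_torsionSub p N)
  have G'' : Gen p (fun q _ => dep (A ⧸ p) q + 1 ≤ dep (N ⧸ T) q) := by
    by_cases hsub : Subsingleton (LocalizedModule p.primeCompl (N ⧸ T))
    · refine (gen_subsingleton p (N ⧸ T) hsub).mono (fun q hq _ h => ?_)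
      rw [dep_eq_top_of_subsingleton (N ⧸ T) q h]
      exact le_top
    · rw [not_subsingleton_iff_nontrivial] at hsub
      obtain ⟨x, hxp, hreg⟩ := exists_mem_isSMulRegular_quot_torsionSub p N
      have hregq : ∀ (q : Ideal A) [q.IsPrime],
          IsSMulRegular (LocalizedModule q.primeCompl (N ⧸ T))
            (algebraMap A (Localization.AtPrime q) x) :=
        fun q _ => isSMulRegular_localized (N ⧸ T) q x hreg
      have hdm := dm_quot_add_one (N ⧸ T) p x hxp (hregq p)
      have hle : dm (N ⧸ T) p ≤ dm N p :=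
        Module.supportDim_le_of_surjective (LocalizedModule.map p.primeCompl T.mkQ)
          (LocalizedModule.map_surjective _ _ T.mkQ_surjective)
      obtain ⟨d'', hd''⟩ := exists_nat_dm_eq (N ⧸ T) p hsub
      rw [hd''] at hdm
      have hN''' := nontrivial_quot_of_dm (N ⧸ T) p x d'' hdm
      obtain ⟨d', hd'⟩ := exists_nat_dm_eq (QuotSMulTop x (N ⧸ T)) p hN'''
      have hlt : d' < d := by
        rw [hd'] at hdm
        rw [hd'', hd] at hle
        have h1 : ((d' + 1 : ℕ) : WithBot ℕ∞) = (d'' : WithBot ℕ∞) := by exact_mod_cast hdm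
        have h1' : d' + 1 = d'' := by exact_mod_cast h1
        have h2 : d'' ≤ d := by exact_mod_cast hle
        omega
      have G1 := IH d' hlt (QuotSMulTop x (N ⧸ T)) hN''' hd'
      refine G1.mono (fun q hq hpq h => ?_)
      have h3 := dep_quot_add_one (N ⧸ T) q x (hpq hxp) (hregq q)
      rw [← h3, h]
      exact add_le_add_left le_add_self 1
  -- `T_p ≠ 0`
  have hTp : Nontrivial (LocalizedModule p.primeCompl T) := by
    by_contra hn
    rw [not_nontrivial_iff_subsingleton] at hn
    have h1 := (depth_lemma_localized N T p).1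
    rw [dep_eq_top_of_subsingleton T p hn, min_eq_right le_top, h0] at h1
    have h2 := G''.self
    rw [dep_quot_self, zero_add] at h2
    have h3 := le_trans h2 h1
    simp at h3
  refine (GT.and G'').mono (fun q hq hpq h => ?_)
  obtain ⟨hPD, h''⟩ := h
  have hTq : Nontrivial (LocalizedModule q.primeCompl T) := nontrivial_of_le p T hTp q hpq
  obtain ⟨t, ht⟩ := exists_nat_dep_eq T q hTq
  have hδ : dep T q = dep (A ⧸ p) q := by
    rcases hPD with h | h
    · exact h
    · exfalso
      have h' : dep T q = ⊤ := h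
      rw [ht] at h'
      exact ENat.coe_ne_top t h'
  obtain ⟨L1, L3⟩ := depth_lemma_localized N T q
  rw [hδ] at L1 L3
  rw [h0, zero_add]
  have hδt : dep (A ⧸ p) q = (t : ℕ∞) := hδ ▸ ht
  apply le_antisymm
  · rcases min_le_iff.1 L3 with h | h
    · exact h
    · exfalso
      have h5 : dep (A ⧸ p) q + 1 ≤ dep (A ⧸ p) q :=
        le_trans h'' (le_trans le_self_add h)
      rw [hδt] at h5
      have : t + 1 ≤ t := by exact_mod_cast h5
      omega
  · have h6 : dep (A ⧸ p) q ≤ dep (N ⧸ T) q := le_trans le_self_add h''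
    rw [min_eq_left h6] at L1
    exact L1

/-- **Generic depth formula along `V(p)`.** -/
theorem gen_dep_eq : ∀ (d : ℕ) (N : Type u) [AddCommGroup N] [Module A N] [Module.Finite A N],
    Nontrivial (LocalizedModule p.primeCompl N) → dm N p = d →
    Gen p (fun q _ => dep N q = dep N p + dep (A ⧸ p) q) := by
  intro d
  induction d using Nat.strong_induction_on with
  | _ d IH =>
    intro N _ _ _ hN hd
    by_cases h1 : (1 : ℕ∞) ≤ dep N p
    · exact step_pos p d IH N hN hd h1
    · have h0 : dep N p = 0 := by
        by_contra hne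
        exact h1 (ENat.one_le_iff_ne_zero.2 hne)
      exact step_zero p d IH N hN hd h0

theorem gen_dep_eq' (N : Type u) [AddCommGroup N] [Module A N] [Module.Finite A N]
    (hN : Nontrivial (LocalizedModule p.primeCompl N)) :
    Gen p (fun q _ => dep N q = dep N p + dep (A ⧸ p) q) := by
  obtain ⟨d, hd⟩ := exists_nat_dm_eq N p hN
  exact gen_dep_eq p d N hN hd

end Groth.Agent.H58.GenDepth
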