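import Groth.Agent.H58.GenDepth.TLemma
import Groth.Agent.H58.LCGV
import Groth.Agent.H2.DepthSES

/-!
# Generic depth formula along `V(p)`:
`depth N_q = depth N_p + depth (A/p)_q` for `q ⊇ p` in a neighbourhood of `p`.
-/

set_option autoImplicit false
set_option linter.unusedSectionVars false
set_option linter.style.haveILetI false
universe u

open IsLocalRing RingTheory.Sequence

namespace Groth.Agent.H58.GenDepth

variable {A : Type u} [CommRing A] [IsNoetherianRing A] (p : Ideal A) [hp : p.IsPrime]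

section helpers
variable (N : Type u) [AddCommGroup N] [Module A N] [Module.Finite A N]

omit [IsNoetherianRing A] [Module.Finite A N] in
theorem isSMulRegular_localized (q : Ideal A) [q.IsPrime] (x : A) (h : IsSMulRegular N x) :
    IsSMulRegular (LocalizedModule q.primeCompl N) (algebraMap A (Localization.AtPrime q) x) := by
  have hf : IsBaseChange (Localization.AtPrime q) (LocalizedModule.mkLinearMap q.primeCompl N) :=
    IsLocalizedModule.isBaseChange q.primeCompl (Localization.AtPrime q) _
  haveI : Module.Flat A (Localization.AtPrime q) := IsLocalization.flat _ q.primeCompl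
  exact h.of_flat_of_isBaseChange hf

theorem nontrivial_quot_of_dm (q : Ideal A) [q.IsPrime] (x : A) (d : ℕ)
    (h : dm (QuotSMulTop x N) q + 1 = (d : WithBot ℕ∞)) :
    Nontrivial (LocalizedModule q.primeCompl (QuotSMulTop x N)) := by
  by_contra hn
  rw [not_nontrivial_iff_subsingleton] at hn
  have h0 : dm (QuotSMulTop x N) q = ⊥ := Module.supportDim_eq_bot_of_subsingleton _ _
  rw [h0, WithBot.bot_add] at h
  exact WithBot.bot_ne_coe h

theorem exists_nat_dm_eq (q : Ideal A) [q.IsPrime]
    (h : Nontrivial (LocalizedModule q.primeCompl N)) : ∃ d : ℕ, dm N q = d :=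
  Groth.Agent.H29.CML.exists_nat_supportDim_eq (A := Localization.AtPrime q) _

theorem exists_nat_dep_eq (q : Ideal A) [q.IsPrime]
    (h : Nontrivial (LocalizedModule q.primeCompl N)) : ∃ d : ℕ, dep N q = d :=
  Groth.Agent.H29.CML.exists_nat_depth_eq (A := Localization.AtPrime q) _

theorem dep_eq_top_of_subsingleton (q : Ideal A) [q.IsPrime]
    (h : Subsingleton (LocalizedModule q.primeCompl N)) : dep N q = ⊤ :=
  Groth.Agent.H29.CML.depth_eq_top_of_subsingleton (A := Localization.AtPrime q) _

end helpers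

/-- `(A/p)_p` is non-zero. -/
theorem nontrivial_quot_self : Nontrivial (LocalizedModule p.primeCompl (A ⧸ p)) := by
  by_contra hn
  rw [not_nontrivial_iff_subsingleton] at hn
  obtain ⟨r, hr, hr0⟩ := (LocalizedModule.subsingleton_iff.1 hn) (1 : A ⧸ p)
  have h4 : r • (1 : A ⧸ p) = Ideal.Quotient.mk p r := by
    rw [Algebra.smul_def, mul_one]
    rfl
  rw [h4] at hr0
  exact hr (Ideal.Quotient.eq_zero_iff_mem.1 hr0)

/-- `depth (A/p)_p = 0`. -/
theorem dep_quot_self : dep (A ⧸ p) p = 0 := by
  by_contra hne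
  have h1 : (1 : ℕ∞) ≤ dep (A ⧸ p) p := ENat.one_le_iff_ne_zero.2 hne
  obtain ⟨x, hxp, hreg⟩ := exists_mem_isSMulRegular p (A ⧸ p) (nontrivial_quot_self p) h1
  have h0 : (algebraMap A (Localization.AtPrime p) x) •
      (LocalizedModule.mk (1 : A ⧸ p) (1 : p.primeCompl)) = 0 := by
    rw [algebraMap_smul_mk]
    have h4 : x • (1 : A ⧸ p) = 0 := by
      rw [Algebra.smul_def, mul_one]
      exact Ideal.Quotient.eq_zero_iff_mem.2 hxp
    rw [h4, LocalizedModule.zero_mk]
  have h2 := (isSMulRegular_iff_right_eq_zero_of_smul.1 hreg) _ h0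
  obtain ⟨t, ht⟩ := (mk_eq_zero_iff' (A ⧸ p) (1 : A ⧸ p) 1).1 h2
  have h4 : (t : A) • (1 : A ⧸ p) = Ideal.Quotient.mk p t := by
    rw [Algebra.smul_def, mul_one]
    rfl
  have h5 : (Ideal.Quotient.mk p) (t : A) = 0 := by
    rw [← h4]
    exact ht
  exact t.2 (Ideal.Quotient.eq_zero_iff_mem.1 h5)

section torsion
variable (N : Type u) [AddCommGroup N] [Module A N] [Module.Finite A N]

omit [IsNoetherianRing A] [Module.Finite A N] in
theorem suppCond_torsionSub : SuppCond p (DRing.torsionSub p N) := by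
  intro x hx hxp
  refine le_antisymm hxp ?_
  obtain ⟨m, hm⟩ := Module.mem_support_iff'.1 hx
  obtain ⟨n, hn⟩ := m.2
  intro a ha
  by_contra hax
  have h1 : a ^ n ∉ x.asIdeal := fun h => hax (x.2.mem_of_pow_mem n h)
  refine hm (a ^ n) h1 ?_
  apply Subtype.ext
  exact hn (a ^ n) (Ideal.pow_mem_pow ha n)

/-- a globally regular element of `p` on `N/Γ_p(N)` -/
theorem exists_mem_isSMulRegular_quot_torsionSub :
    ∃ x ∈ p, IsSMulRegular (N ⧸ DRing.torsionSub p N) x := by
  have htf := Groth.Agent.H58.LC.torsionSub_quotient_eq_bot p N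
  have htf' : DRing.torsionSub (Ideal.map (algebraMap A A) p) (N ⧸ DRing.torsionSub p N) = ⊥ := by
    rw [Algebra.algebraMap_self, Ideal.map_id]
    exact htf
  obtain ⟨r, hr, hreg⟩ := Groth.Agent.S11610.result A A p (N ⧸ DRing.torsionSub p N) htf'
  exact ⟨r, hr, hreg⟩

end torsion

end Groth.Agent.H58.GenDepth
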