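import Groth.Agent.H58.GenDepth.DimMain

/-!
# Generic dimension formula along `V(p)`: parameter elements and the induction
-/

set_option autoImplicit false
set_option linter.unusedSectionVars false
set_option linter.style.haveILetI false
universe u

open IsLocalRing Groth.Agent.H29.SuppDimLoc

namespace Groth.Agent.H58.GenDepth

variable {A : Type u} [CommRing A] [IsNoetherianRing A] (p : Ideal A) [hp : p.IsPrime]

section param
variable {R : Type u} [CommRing R] [IsNoetherianRing R] [IsLocalRing R]
  (M : Type u) [AddCommGroup M] [Module R M] [Module.Finite R M]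

/-- in a local ring, if `dim M ≥ 1` some element of the maximal ideal avoids all minimal primes
of the annihilator. -/
theorem exists_mem_maximalIdeal_notMem_minimalPrimes (h1 : (1 : WithBot ℕ∞) ≤ Module.supportDim R M) :
    ∃ t ∈ maximalIdeal R, ∀ P ∈ (Module.annihilator R M).minimalPrimes, t ∉ P := by
  set J := Module.annihilator R M with hJ
  have hfin : J.minimalPrimes.Finite := J.finite_minimalPrimes_of_isNoetherianRing R
  by_contra hcon
  push Not at hcon
  have hsub : ((maximalIdeal R : Ideal R) : Set R) ⊆ ⋃ P ∈ J.minimalPrimes, (P : Set R) := by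
    intro t ht
    obtain ⟨P, hP, htP⟩ := hcon t ht
    exact Set.mem_iUnion₂.2 ⟨P, hP, htP⟩
  obtain ⟨P, hP, hmP⟩ := (Ideal.subset_union_prime_finite hfin (f := id) J J
    (fun P hP _ _ => hP.1.1)).1 hsub
  haveI := hP.1.1
  have hPm : P = maximalIdeal R :=
    le_antisymm (IsLocalRing.le_maximalIdeal hP.1.1.ne_top) hmP
  -- the support is a single point
  have hsupp : ∀ x ∈ Module.support R M, x.asIdeal = P := by
    intro x hx
    have hJx : J ≤ x.asIdeal := (Module.mem_support_iff_of_finite).1 hx
    have hxP : x.asIdeal ≤ P := by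
      rw [hPm]
      exact IsLocalRing.le_maximalIdeal x.2.ne_top
    exact le_antisymm hxP (hP.2 ⟨x.2, hJx⟩ hxP)
  have hle : Module.supportDim R M ≤ 0 := by
    unfold Module.supportDim
    haveI : Subsingleton (Module.support R M) := by
      refine ⟨fun x y => Subtype.ext (PrimeSpectrum.ext ?_)⟩
      rw [hsupp x.1 x.2, hsupp y.1 y.2]
    exact Order.krullDim_nonpos_of_subsingleton
  have h01 : ((0 : ℕ) : WithBot ℕ∞) < ((1 : ℕ) : WithBot ℕ∞) := by exact_mod_cast Nat.zero_lt_one
  exact absurd (le_trans h1 hle) (not_le.2 (by exact_mod_cast h01))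

end param

variable (N : Type u) [AddCommGroup N] [Module A N] [Module.Finite A N]

/-- a parameter element coming from `p` -/
theorem exists_mem_dm_quot (h1 : (1 : WithBot ℕ∞) ≤ dm N p) :
    ∃ x ∈ p, dm (QuotSMulTop x N) p + 1 = dm N p := by
  obtain ⟨t, htm, htP⟩ := exists_mem_maximalIdeal_notMem_minimalPrimes
    (R := Localization.AtPrime p) (LocalizedModule p.primeCompl N) h1
  obtain ⟨a, s, hast⟩ := IsLocalization.exists_mk'_eq p.primeCompl t
  have hspec : t * algebraMap A (Localization.AtPrime p) (s : A) =
      algebraMap A (Localization.AtPrime p) a := by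
    rw [← hast]
    exact IsLocalization.mk'_spec _ a s
  have hunit : IsUnit (algebraMap A (Localization.AtPrime p) (s : A)) :=
    IsLocalization.map_units _ s
  have ham : algebraMap A (Localization.AtPrime p) a ∈ maximalIdeal (Localization.AtPrime p) := by
    rw [← hspec]
    exact Ideal.mul_mem_right _ _ htm
  have hap : a ∈ p :=
    (IsLocalization.AtPrime.to_map_mem_maximal_iff (Localization.AtPrime p) p a).1 ham
  refine ⟨a, hap, ?_⟩
  have hn : ∀ P ∈ (Module.annihilator (Localization.AtPrime p)
      (LocalizedModule p.primeCompl N)).minimalPrimes,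
      algebraMap A (Localization.AtPrime p) a ∉ P := by
    intro P hP haP
    haveI := hP.1.1
    rw [← hspec] at haP
    rcases hP.1.1.mem_or_mem haP with h | h
    · exact htP P hP h
    · exact hP.1.1.ne_top (Ideal.eq_top_of_isUnit_mem _ h hunit)
  have h := Module.supportDim_quotSMulTop_succ_eq_of_notMem_minimalPrimes_of_mem_maximalIdeal
    (R := Localization.AtPrime p) (M := LocalizedModule p.primeCompl N) hn ham
  unfold dm
  rw [← h, Module.supportDim_eq_of_equiv (quotEquiv N p a)]

/-- **Generic dimension formula along `V(p)`.** -/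
theorem gen_dm_eq : ∀ (d : ℕ) (N : Type u) [AddCommGroup N] [Module A N] [Module.Finite A N],
    Nontrivial (LocalizedModule p.primeCompl N) → dm N p = d →
    Gen p (fun q _ => dm N q = dm N p + dm (A ⧸ p) q) := by
  intro d
  induction d with
  | zero =>
    intro N _ _ _ hN hd
    have hd0 : dm N p = 0 := by exact_mod_cast hd
    refine (gen_dm_eq_zero p N hN hd0).mono (fun q hq _ h => ?_)
    rw [hd0, zero_add]
    exact h
  | succ d ih =>
    intro N _ _ _ hN hd
    have h1 : (1 : WithBot ℕ∞) ≤ dm N p := by
      rw [hd]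
      exact_mod_cast Nat.succ_le_succ (Nat.zero_le d)
    obtain ⟨x, hxp, hx⟩ := exists_mem_dm_quot p N h1
    have hx' : dm (QuotSMulTop x N) p + 1 = ((d + 1 : ℕ) : WithBot ℕ∞) := hx.trans hd
    have hN' := nontrivial_quot_of_dm N p x (d + 1) hx'
    obtain ⟨d', hd'⟩ := exists_nat_dm_eq (QuotSMulTop x N) p hN'
    have hdd : d' = d := by
      rw [hd'] at hx'
      have h2 : ((d' + 1 : ℕ) : WithBot ℕ∞) = ((d + 1 : ℕ) : WithBot ℕ∞) := by exact_mod_cast hx'
      have h3 : d' + 1 = d + 1 := by exact_mod_cast h2
      omega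
    rw [hdd] at hd'
    refine (ih (QuotSMulTop x N) hN' hd').mono (fun q hq hpq h => ?_)
    apply le_antisymm
    · refine le_trans (dm_le_dm_quot_add_one N q x (hpq hxp)) ?_
      rw [h, ← hx, add_right_comm]
    · exact dm_add_le p N hN q hpq

theorem gen_dm_eq' (N : Type u) [AddCommGroup N] [Module A N] [Module.Finite A N]
    (hN : Nontrivial (LocalizedModule p.primeCompl N)) :
    Gen p (fun q _ => dm N q = dm N p + dm (A ⧸ p) q) := by
  obtain ⟨d, hd⟩ := exists_nat_dm_eq N p hN
  exact gen_dm_eq p d N hN hd

end Groth.Agent.H58.GenDepth
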