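import Groth.Agent.H58.GenDepth.DimOrder
import Groth.Agent.H58.GenDepth.DepthInd

/-!
# Generic dimension formula along `V(p)`:
`dim N_q = dim N_p + dim (A/p)_q` for `q ⊇ p` in a neighbourhood of `p`.
-/

set_option autoImplicit false
set_option linter.unusedSectionVars false
set_option linter.style.haveILetI false
universe u

open IsLocalRing Groth.Agent.H29.SuppDimLoc

namespace Groth.Agent.H58.GenDepth

variable {A : Type u} [CommRing A] [IsNoetherianRing A] (p : Ideal A) [hp : p.IsPrime]
variable (N : Type u) [AddCommGroup N] [Module A N] [Module.Finite A N]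

/-- base case: `p` minimal in the support -/
theorem gen_dm_eq_zero (hN : Nontrivial (LocalizedModule p.primeCompl N)) (h0 : dm N p = 0) :
    Gen p (fun q _ => dm N q = dm (A ⧸ p) q) := by
  classical
  have hpS : (⟨p, hp⟩ : PrimeSpectrum A) ∈ Module.support A N := hN
  have hmin : ∀ x ∈ Module.support A N, x.asIdeal ≤ p → x.asIdeal = p := by
    intro x hx hxp
    rw [dm_eq_krullDim] at h0
    have h1 := Order.krullDim_nonpos_iff_forall_isMax.1 (le_of_eq h0)
    let a : Below N p := ⟨⟨p, hp⟩, hpS, le_rfl⟩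
    let b : Below N p := ⟨x, hx, hxp⟩
    have hba : b ≤ a := hxp
    have hab : a ≤ b := (h1 b) hba
    exact le_antisymm hxp hab
  set J := Module.annihilator A N with hJ
  have hfin : J.minimalPrimes.Finite := J.finite_minimalPrimes_of_isNoetherianRing A
  have hnle : ∀ P ∈ J.minimalPrimes, P ≠ p → ¬ P ≤ p := by
    intro P hP hPp hle
    haveI := hP.1.1
    have hPS : (⟨P, hP.1.1⟩ : PrimeSpectrum A) ∈ Module.support A N := by
      rw [Module.mem_support_iff_of_finite]
      exact hP.1.2
    exact hPp (hmin ⟨P, hP.1.1⟩ hPS hle)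
  let g : Ideal A → A := fun P => if h : P ≤ p then 1 else (Set.not_subset.1 h).choose
  have hg : ∀ P : Ideal A, ¬ P ≤ p → g P ∈ P ∧ g P ∉ p := by
    intro P h
    have h1 : g P = (Set.not_subset.1 h).choose := dif_neg h
    rw [h1]
    obtain ⟨h2, h3⟩ := (Set.not_subset.1 h).choose_spec
    exact ⟨h2, h3⟩
  refine ⟨∏ P ∈ hfin.toFinset.erase p, g P, ?_, fun q hq hpq hfq => ?_⟩
  · intro hmem
    obtain ⟨P, hPs, hPg⟩ := (Ideal.IsPrime.prod_mem_iff (hp := hp)).1 hmem
    rw [Finset.mem_erase, Set.Finite.mem_toFinset] at hPs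
    exact (hg P (hnle P hPs.2 hPs.1)).2 hPg
  · have hset : Below N q = Below (A ⧸ p) q := by
      ext x
      constructor
      · rintro ⟨hx, hxq⟩
        refine ⟨(mem_support_quot_iff p x).2 ?_, hxq⟩
        haveI := x.2
        have hJx : J ≤ x.asIdeal := (Module.mem_support_iff_of_finite).1 hx
        obtain ⟨P, hP, hPx⟩ := Ideal.exists_minimalPrimes_le hJx
        by_cases hPp : P = p
        · rw [← hPp]
          exact hPx
        · exfalso
          apply hfq
          have hmemP : P ∈ hfin.toFinset.erase p := by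
            rw [Finset.mem_erase, Set.Finite.mem_toFinset]
            exact ⟨hPp, hP⟩
          have hgq : g P ∈ q := hxq (hPx (hg P (hnle P hP hPp)).1)
          obtain ⟨c, hc⟩ := Finset.dvd_prod_of_mem g hmemP
          rw [hc]
          exact q.mul_mem_right c hgq
      · rintro ⟨hx, hxq⟩
        exact ⟨Module.mem_support_mono
          (show (⟨p, hp⟩ : PrimeSpectrum A) ≤ x from (mem_support_quot_iff p x).1 hx) hpS, hxq⟩
    show dm N q = dm (A ⧸ p) q
    rw [dm_eq_krullDim, dm_eq_krullDim, hset]

end Groth.Agent.H58.GenDepth
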