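import Groth.Agent.H58.GenDepth.Basic
import Groth.Agent.H29.SuppDimLoc

/-!
# Order-theoretic part of the generic dimension formula
-/

set_option autoImplicit false
set_option linter.unusedSectionVars false
set_option linter.style.haveILetI false
universe u

open IsLocalRing Groth.Agent.H29.SuppDimLoc

namespace Groth.Agent.H58.GenDepth

variable {A : Type u} [CommRing A] [IsNoetherianRing A] (p : Ideal A) [hp : p.IsPrime]
variable (N : Type u) [AddCommGroup N] [Module A N] [Module.Finite A N]

omit [IsNoetherianRing A] [Module.Finite A N] in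
theorem dm_eq_krullDim (q : Ideal A) [q.IsPrime] : dm N q = Order.krullDim (Below N q) :=
  supportDim_localization_eq N q

omit [IsNoetherianRing A] in
theorem mem_support_quot_iff (x : PrimeSpectrum A) : x ∈ Module.support A (A ⧸ p) ↔ p ≤ x.asIdeal := by
  rw [Module.mem_support_iff_of_finite, Ideal.annihilator_quotient]

omit [IsNoetherianRing A] in
/-- `dim N_p + dim (A/p)_q ≤ dim N_q` for `q ⊇ p`, `p ∈ Supp N`. -/
theorem dm_add_le (hN : Nontrivial (LocalizedModule p.primeCompl N)) (q : Ideal A) [hq : q.IsPrime]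
    (hpq : p ≤ q) : dm N p + dm (A ⧸ p) q ≤ dm N q := by
  rw [dm_eq_krullDim, dm_eq_krullDim, dm_eq_krullDim]
  have hpS : (⟨p, hp⟩ : PrimeSpectrum A) ∈ Module.support A N := hN
  let a : Below N q := ⟨⟨p, hp⟩, hpS, hpq⟩
  haveI : Nonempty (Below N q) := ⟨a⟩
  have h1 : Order.krullDim (Below N p) ≤ ((Order.height a : ℕ∞) : WithBot ℕ∞) := by
    rw [Order.height_eq_krullDim_Iic]
    refine Order.krullDim_le_of_strictMono
      (fun x : Below N p => (⟨⟨x.1, x.2.1, le_trans x.2.2 hpq⟩, x.2.2⟩ : Set.Iic a)) ?_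
    intro x y hxy
    exact hxy
  have h2 : Order.krullDim (Below (A ⧸ p) q) ≤ ((Order.coheight a : ℕ∞) : WithBot ℕ∞) := by
    rw [Order.coheight_eq_krullDim_Ici]
    refine Order.krullDim_le_of_strictMono
      (fun x : Below (A ⧸ p) q => (⟨⟨x.1, Module.mem_support_mono
        (show (⟨p, hp⟩ : PrimeSpectrum A) ≤ x.1 from (mem_support_quot_iff p x.1).1 x.2.1) hpS,
        x.2.2⟩, (mem_support_quot_iff p x.1).1 x.2.1⟩ : Set.Ici a)) ?_
    intro x y hxy
    exact hxy
  have h3 : ((Order.height a + Order.coheight a : ℕ∞) : WithBot ℕ∞) ≤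
      Order.krullDim (Below N q) := by
    rw [Order.krullDim_eq_iSup_height_add_coheight_of_nonempty, WithBot.coe_le_coe]
    exact le_iSup (fun a : Below N q => Order.height a + Order.coheight a) a
  refine le_trans (add_le_add h1 h2) ?_
  rw [← WithBot.coe_add]
  exact h3

end Groth.Agent.H58.GenDepth
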