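import Groth.Agent.H58.GenDepth.DimOrder
import Groth.Agent.H58.GenDepth.DepthMain
import Groth.Agent.H72.DepthLocIneq

/-!
# `dim (A/p)_s = ht (s/p)` and stability of codepth under generization
-/

set_option autoImplicit false
set_option linter.unusedSectionVars false
set_option linter.style.haveILetI false
universe u

open IsLocalRing Groth.Agent.H29.SuppDimLoc

namespace Groth.Agent.H58.GenDepth

variable {A : Type u} [CommRing A] [IsNoetherianRing A]

omit [IsNoetherianRing A] in
theorem comap_map_mk_of_le (p I : Ideal A) (h : p ≤ I) :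
    (I.map (Ideal.Quotient.mk p)).comap (Ideal.Quotient.mk p) = I := by
  rw [Ideal.comap_map_of_surjective _ Ideal.Quotient.mk_surjective, ← RingHom.ker_eq_comap_bot,
    Ideal.mk_ker, sup_eq_left]
  exact h

variable (p s : Ideal A) [hp : p.IsPrime] [hs : s.IsPrime]

omit [IsNoetherianRing A] in
theorem dm_quot_eq_height (hps : p ≤ s) :
    dm (A ⧸ p) s = (((s.map (Ideal.Quotient.mk p)).height : ℕ∞) : WithBot ℕ∞) := by
  haveI hsp : (s.map (Ideal.Quotient.mk p)).IsPrime :=
    Ideal.map_isPrime_of_surjective Ideal.Quotient.mk_surjective (by rwa [Ideal.mk_ker])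
  rw [dm_eq_krullDim,
    show (s.map (Ideal.Quotient.mk p)).height =
      Order.height (⟨s.map (Ideal.Quotient.mk p), hsp⟩ : PrimeSpectrum (A ⧸ p)) from
      PrimeSpectrum.height_eq_orderHeight ⟨s.map (Ideal.Quotient.mk p), hsp⟩,
    Order.height_eq_krullDim_Iic]
  apply le_antisymm
  · refine Order.krullDim_le_of_strictMono
      (fun x : Below (A ⧸ p) s =>
        (⟨⟨x.1.asIdeal.map (Ideal.Quotient.mk p),
          Ideal.map_isPrime_of_surjective Ideal.Quotient.mk_surjective
            (by rw [Ideal.mk_ker]; exact (mem_support_quot_iff p x.1).1 x.2.1)⟩,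
          Ideal.map_mono x.2.2⟩ :
          Set.Iic (⟨s.map (Ideal.Quotient.mk p), hsp⟩ : PrimeSpectrum (A ⧸ p)))) ?_
    intro x y hxy
    rw [lt_iff_le_not_ge] at hxy ⊢
    refine ⟨Ideal.map_mono (f := Ideal.Quotient.mk p) hxy.1, fun hle => hxy.2 ?_⟩
    have h1 : (y.1.asIdeal.map (Ideal.Quotient.mk p)).comap (Ideal.Quotient.mk p) ≤
        (x.1.asIdeal.map (Ideal.Quotient.mk p)).comap (Ideal.Quotient.mk p) :=
      Ideal.comap_mono hle
    rw [comap_map_mk_of_le p _ ((mem_support_quot_iff p x.1).1 x.2.1),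
      comap_map_mk_of_le p _ ((mem_support_quot_iff p y.1).1 y.2.1)] at h1
    exact h1
  · refine Order.krullDim_le_of_strictMono
      (fun z : Set.Iic (⟨s.map (Ideal.Quotient.mk p), hsp⟩ : PrimeSpectrum (A ⧸ p)) =>
        (⟨PrimeSpectrum.comap (Ideal.Quotient.mk p) z.1,
          (mem_support_quot_iff p _).2 (by
            change p ≤ z.1.asIdeal.comap (Ideal.Quotient.mk p)
            conv_lhs => rw [← Ideal.mk_ker (I := p)]
            exact Ideal.ker_le_comap _),
          (by
            change z.1.asIdeal.comap (Ideal.Quotient.mk p) ≤ s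
            have h1 : z.1.asIdeal.comap (Ideal.Quotient.mk p) ≤
                (s.map (Ideal.Quotient.mk p)).comap (Ideal.Quotient.mk p) :=
              Ideal.comap_mono z.2
            rwa [comap_map_mk_of_le p s hps] at h1)⟩ : Below (A ⧸ p) s)) ?_
    intro x y hxy
    rw [lt_iff_le_not_ge] at hxy ⊢
    refine ⟨Ideal.comap_mono (f := Ideal.Quotient.mk p) hxy.1, fun hle => hxy.2 ?_⟩
    have h1 : (y.1.asIdeal.comap (Ideal.Quotient.mk p)).map (Ideal.Quotient.mk p) ≤
        (x.1.asIdeal.comap (Ideal.Quotient.mk p)).map (Ideal.Quotient.mk p) :=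
      Ideal.map_mono hle
    rw [Ideal.map_comap_of_surjective _ Ideal.Quotient.mk_surjective,
      Ideal.map_comap_of_surjective _ Ideal.Quotient.mk_surjective] at h1
    exact h1

/-- codepth does not increase under generization -/
theorem codepth_gen (N : Type u) [AddCommGroup N] [Module A N] [Module.Finite A N] (n : ℕ)
    (hps : p ≤ s) (h : dm N s ≤ ((dep N s : ℕ∞) : WithBot ℕ∞) + n) :
    dm N p ≤ ((dep N p : ℕ∞) : WithBot ℕ∞) + n := by
  by_cases hN : Subsingleton (LocalizedModule p.primeCompl N)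
  · have : dm N p = ⊥ := (Module.supportDim_eq_bot_iff_subsingleton _ _).mpr hN
    rw [this]
    exact bot_le
  rw [not_subsingleton_iff_nontrivial] at hN
  have hsp : (s.map (Ideal.Quotient.mk p)).IsPrime :=
    Ideal.map_isPrime_of_surjective Ideal.Quotient.mk_surjective (by rwa [Ideal.mk_ker])
  have hfin : (s.map (Ideal.Quotient.mk p)).height ≠ ⊤ :=
    (Ideal.height_lt_top hsp.ne_top).ne
  obtain ⟨c, hc⟩ := ENat.ne_top_iff_exists.mp hfin
  have h1 := dm_add_le p N hN s hps
  rw [dm_quot_eq_height p s hps, ← hc] at h1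
  have h2 : dep N s ≤ dep N p + (s.map (Ideal.Quotient.mk p)).height :=
    Groth.Agent.H72.DepthLocIneq.depth_localization_le N p s hps
  rw [← hc] at h2
  obtain ⟨d, hd⟩ := exists_nat_dm_eq N p hN
  obtain ⟨e, he⟩ := exists_nat_dep_eq N p hN
  rw [he] at h2 ⊢
  rw [hd] at h1 ⊢
  have h3 : ((dep N s : ℕ∞) : WithBot ℕ∞) ≤ (((e : ℕ∞) + (c : ℕ∞) : ℕ∞) : WithBot ℕ∞) :=
    WithBot.coe_le_coe.2 h2
  have h4 : ((d : ℕ) : WithBot ℕ∞) + ((c : ℕ∞) : WithBot ℕ∞) ≤
      (((e : ℕ∞) + (c : ℕ∞) : ℕ∞) : WithBot ℕ∞) + (n : WithBot ℕ∞) :=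
    h1.trans (h.trans (add_le_add h3 le_rfl))
  have h5 : d + c ≤ e + c + n := by exact_mod_cast h4
  have h6 : d ≤ e + n := by omega
  exact_mod_cast h6

end Groth.Agent.H58.GenDepth
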