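import Groth.Agent.H58.GenDepth.Topology
import Groth.Agent.H58.GenDepth.Height
import Groth.Agent.H58.GenDepth.DepthInd
import Groth.Agent.H58.GenDepth.DimInd
import Groth.Agent.H29.CodepthLocusQuot
import Groth.Agent.H29.SkLocusOpen

/-!
# Openness of codepth and `(S_n)` loci (EGA IV 6.11.2, 6.11.6, 6.11.8)
-/

set_option autoImplicit false
set_option linter.unusedSectionVars false
set_option linter.style.haveILetI false
universe u

open IsLocalRing Groth.Agent.H29.SuppDimLoc Groth.Agent.H29.SkAt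

namespace Groth.Agent.H58.GenDepth

variable {A : Type u} [CommRing A] [IsNoetherianRing A]

/-- `R_S ≃ (R)_S` as modules over the localization. -/
noncomputable def selfEquiv (R : Type u) [CommRing R] (S : Submonoid R) :
    Localization S ≃ₗ[Localization S] LocalizedModule S R :=
  LinearEquiv.extendScalarsOfIsLocalization S (Localization S)
    (IsLocalizedModule.linearEquiv S (Algebra.linearMap R (Localization S))
      (LocalizedModule.mkLinearMap S R))

section Quot
variable (p : Ideal A) [hp : p.IsPrime]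

/-- a nonempty open of `Spec (A/p)` gives a generic condition along `V(p)` -/
theorem gen_of_isOpen_quot (U : Set (PrimeSpectrum (A ⧸ p))) (hU : IsOpen U) (hne : U.Nonempty) :
    Gen p (fun q _ => ∃ q' : PrimeSpectrum (A ⧸ p), q' ∈ U ∧
      q'.asIdeal.comap (algebraMap A (A ⧸ p)) = q) := by
  obtain ⟨u, hu⟩ := hne
  haveI : IsDomain (A ⧸ p) := Ideal.Quotient.isDomain p
  let η : PrimeSpectrum (A ⧸ p) := ⟨⊥, Ideal.isPrime_bot⟩
  have hη : η ∈ U := by
    refine hU.stableUnderGeneralization ?_ hu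
    rw [← PrimeSpectrum.le_iff_specializes]
    exact (bot_le : (⊥ : Ideal (A ⧸ p)) ≤ u.asIdeal)
  obtain ⟨v, ⟨g', rfl⟩, hηv, hvU⟩ :=
    PrimeSpectrum.isTopologicalBasis_basic_opens.exists_subset_of_mem_open hη hU
  obtain ⟨g, rfl⟩ := Ideal.Quotient.mk_surjective g'
  have hg : g ∉ p := by
    intro hgp
    have h0 : Ideal.Quotient.mk p g = 0 := Ideal.Quotient.eq_zero_iff_mem.2 hgp
    have : Ideal.Quotient.mk p g ∉ η.asIdeal := hηv
    exact this (by rw [h0]; exact Ideal.zero_mem _)
  refine ⟨g, hg, fun q hq hpq hgq => ?_⟩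
  have hqp : (q.map (Ideal.Quotient.mk p)).IsPrime :=
    Ideal.map_isPrime_of_surjective Ideal.Quotient.mk_surjective (by rwa [Ideal.mk_ker])
  refine ⟨⟨q.map (Ideal.Quotient.mk p), hqp⟩, hvU ?_, comap_map_mk_of_le p q hpq⟩
  change Ideal.Quotient.mk p g ∉ q.map (Ideal.Quotient.mk p)
  intro hmem
  have : g ∈ (q.map (Ideal.Quotient.mk p)).comap (Ideal.Quotient.mk p) := hmem
  rw [comap_map_mk_of_le p q hpq] at this
  exact hgq this

theorem mem_support_quot_self (q' : PrimeSpectrum (A ⧸ p)) :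
    q' ∈ Module.support (A ⧸ p) (A ⧸ p) := by
  rw [Module.support_of_algebra, PrimeSpectrum.mem_zeroLocus]
  intro x hx
  have h0 : x = 0 := by simpa using hx
  rw [h0]
  exact Ideal.zero_mem _

theorem surj_quot : Function.Surjective (algebraMap A (A ⧸ p)) := Ideal.Quotient.mk_surjective

theorem dm_quot_comap (q' : PrimeSpectrum (A ⧸ p)) :
    dm (A ⧸ p) (q'.asIdeal.comap (algebraMap A (A ⧸ p))) =
      Module.supportDim (Localization.AtPrime q'.asIdeal)
        (LocalizedModule q'.asIdeal.primeCompl (A ⧸ p)) :=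
  Groth.Agent.H29.CodepthLocusQuot.supportDim_eq A (A ⧸ p) (surj_quot p) q'
    (mem_support_quot_self p q')

theorem dep_quot_comap (q' : PrimeSpectrum (A ⧸ p)) :
    dep (A ⧸ p) (q'.asIdeal.comap (algebraMap A (A ⧸ p))) =
      LocCoh.depth (Localization.AtPrime q'.asIdeal)
        (LocalizedModule q'.asIdeal.primeCompl (A ⧸ p)) :=
  Groth.Agent.H29.CodepthLocusQuot.depth_eq A (A ⧸ p) (surj_quot p) q'
    (mem_support_quot_self p q')

/-- transport of a statement along an equality of primes -/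
theorem dm_dep_congr (N : Type u) [AddCommGroup N] [Module A N] {q₁ q₂ : Ideal A} [q₁.IsPrime]
    [q₂.IsPrime] (h : q₁ = q₂) : dm N q₁ = dm N q₂ ∧ dep N q₁ = dep N q₂ := by
  subst h
  exact ⟨rfl, rfl⟩

end Quot

end Groth.Agent.H58.GenDepth
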