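import Groth.Agent.H58.GenDepth.DepthInd
import Groth.Agent.H58.GenDepth.DimInd

/-!
# EGA IV 6.10.6: generic additivity of dimension and depth along an irreducible closed subset
-/

set_option autoImplicit false
set_option linter.unusedSectionVars false
set_option linter.style.haveILetI false
universe u

open IsLocalRing Groth.Agent.H29.SuppDimLoc

namespace Groth.Agent.H58.GenDepth

variable {A : Type u} [CommRing A] [IsNoetherianRing A]

/-- `A_q / I A_q ≃ (A/I)_q`. -/
noncomputable def quotMapEquiv (I q : Ideal A) [q.IsPrime] :
    (Localization.AtPrime q ⧸ I.map (algebraMap A (Localization.AtPrime q)))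
      ≃ₗ[Localization.AtPrime q] LocalizedModule q.primeCompl (A ⧸ I) :=
  have := IsLocalization.linearMap_compatibleSMul q.primeCompl
  (Submodule.quotEquivOfEq _ _
    (Ideal.localized'_eq_map (Localization.AtPrime q) q.primeCompl I).symm) ≪≫ₗ
  ((IsLocalizedModule.linearEquiv q.primeCompl
    (Submodule.toLocalizedQuotient' (Localization.AtPrime q) q.primeCompl
      (Algebra.linearMap A (Localization.AtPrime q)) I)
    (LocalizedModule.mkLinearMap q.primeCompl (A ⧸ I))).restrictScalars _)

section
variable (I : Ideal A) [hI : I.radical.IsPrime]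

theorem mem_support_quot_radical :
    (⟨I.radical, hI⟩ : PrimeSpectrum A) ∈ Module.support A (A ⧸ I) := by
  rw [Module.mem_support_iff_of_finite, Ideal.annihilator_quotient]
  exact Ideal.le_radical

theorem nontrivial_quot_radical : Nontrivial (LocalizedModule I.radical.primeCompl (A ⧸ I)) :=
  mem_support_quot_radical I

theorem dm_quot_radical : dm (A ⧸ I) I.radical = 0 := by
  rw [dm_eq_krullDim]
  haveI : Nonempty (Below (A ⧸ I) I.radical) :=
    ⟨⟨⟨I.radical, hI⟩, mem_support_quot_radical I, le_rfl⟩⟩
  haveI : Subsingleton (Below (A ⧸ I) I.radical) := by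
    have key : ∀ x : Below (A ⧸ I) I.radical, x.1 = ⟨I.radical, hI⟩ := by
      intro x
      have h1 : I ≤ x.1.asIdeal := by
        have := x.2.1
        rwa [Module.mem_support_iff_of_finite, Ideal.annihilator_quotient] at this
      have h2 : I.radical ≤ x.1.asIdeal := (Ideal.IsPrime.radical_le_iff x.1.2).2 h1
      exact le_antisymm x.2.2 h2
    exact ⟨fun x y => Subtype.ext ((key x).trans (key y).symm)⟩
  exact Order.krullDim_eq_zero

theorem dep_quot_radical : dep (A ⧸ I) I.radical = 0 := by
  haveI := nontrivial_quot_radical I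
  have h := Groth.Agent.H29.CML.depth_le_supportDim (A := Localization.AtPrime I.radical)
    (LocalizedModule I.radical.primeCompl (A ⧸ I))
  have h0 : Module.supportDim (Localization.AtPrime I.radical)
      (LocalizedModule I.radical.primeCompl (A ⧸ I)) = 0 := dm_quot_radical I
  rw [h0] at h
  have h' : dep (A ⧸ I) I.radical ≤ 0 := by exact_mod_cast h
  exact le_antisymm h' zero_le

/-- EGA IV 6.10.6 in `Gen` form. -/
theorem gen_main (M : Type u) [AddCommGroup M] [Module A M] [Module.Finite A M]
    (hM : Nontrivial (LocalizedModule I.radical.primeCompl M)) :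
    Gen I.radical (fun q _ => dm M q = dm M I.radical + dm (A ⧸ I) q ∧
      dep M q = dep M I.radical + dep (A ⧸ I) q) := by
  have h1 := gen_dm_eq' I.radical M hM
  have h2 := gen_dep_eq' I.radical M hM
  have h3 := gen_dm_eq' I.radical (A ⧸ I) (nontrivial_quot_radical I)
  have h4 := gen_dep_eq' I.radical (A ⧸ I) (nontrivial_quot_radical I)
  refine ((h1.and h2).and (h3.and h4)).mono ?_
  rintro q hq - ⟨⟨e1, e2⟩, e3, e4⟩
  rw [dm_quot_radical, zero_add] at e3
  rw [dep_quot_radical, zero_add] at e4
  exact ⟨by rw [e1, e3], by rw [e2, e4]⟩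

end

theorem main4699 (M : Type u) [AddCommGroup M] [Module A M] [Module.Finite A M] (I : Ideal A)
    [I.radical.IsPrime]
    (hp : (⟨I.radical, inferInstance⟩ : PrimeSpectrum A) ∈ Module.support A M) :
    ∃ f : A, f ∉ I.radical ∧ ∀ (q : Ideal A) [q.IsPrime], I ≤ q → f ∉ q →
      Module.supportDim (Localization.AtPrime q) (LocalizedModule q.primeCompl M) =
          Module.supportDim (Localization.AtPrime I.radical)
            (LocalizedModule I.radical.primeCompl M) +
            Module.supportDim (Localization.AtPrime q)
              (Localization.AtPrime q ⧸ I.map (algebraMap A (Localization.AtPrime q))) ∧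
        LocCoh.depth (Localization.AtPrime q) (LocalizedModule q.primeCompl M) =
          LocCoh.depth (Localization.AtPrime I.radical)
            (LocalizedModule I.radical.primeCompl M) +
            LocCoh.depth (Localization.AtPrime q)
              (Localization.AtPrime q ⧸ I.map (algebraMap A (Localization.AtPrime q))) := by
  obtain ⟨f, hf, h⟩ := gen_main I M hp
  refine ⟨f, hf, fun q hq hIq hfq => ?_⟩
  have hpq : I.radical ≤ q := (Ideal.IsPrime.radical_le_iff hq).2 hIq
  obtain ⟨e1, e2⟩ := h q hq hpq hfq
  have c1 : Module.supportDim (Localization.AtPrime q)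
      (Localization.AtPrime q ⧸ I.map (algebraMap A (Localization.AtPrime q))) =
      dm (A ⧸ I) q := Module.supportDim_eq_of_equiv (quotMapEquiv I q)
  have c2 : LocCoh.depth (Localization.AtPrime q)
      (Localization.AtPrime q ⧸ I.map (algebraMap A (Localization.AtPrime q))) =
      dep (A ⧸ I) q := Groth.Agent.H15.idealDepth_congr (quotMapEquiv I q) _
  rw [c1, c2]
  exact ⟨e1, e2⟩

end Groth.Agent.H58.GenDepth
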