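import Groth.Agent.H58.GenDepth.Basic

/-!
# Quotients by an element and localization
-/

set_option autoImplicit false
set_option linter.unusedSectionVars false
set_option linter.style.haveILetI false
universe u

open IsLocalRing

namespace Groth.Agent.H58.GenDepth

variable {A : Type u} [CommRing A] [IsNoetherianRing A] (p : Ideal A) [hp : p.IsPrime]
variable (N : Type u) [AddCommGroup N] [Module A N] [Module.Finite A N]

/-- `N_q/(x/1)N_q ≅ (N/xN)_q`. -/
noncomputable def quotEquiv (q : Ideal A) [q.IsPrime] (x : A) :
    QuotSMulTop (algebraMap A (Localization.AtPrime q) x) (LocalizedModule q.primeCompl N)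
      ≃ₗ[Localization.AtPrime q] LocalizedModule q.primeCompl (QuotSMulTop x N) :=
  have hf : IsBaseChange (Localization.AtPrime q) (LocalizedModule.mkLinearMap q.primeCompl N) :=
    IsLocalizedModule.isBaseChange q.primeCompl (Localization.AtPrime q) _
  have hf' : IsBaseChange (Localization.AtPrime q)
      (LocalizedModule.mkLinearMap q.primeCompl (QuotSMulTop x N)) :=
    IsLocalizedModule.isBaseChange q.primeCompl (Localization.AtPrime q) _
  ((QuotSMulTop.algebraMapTensorEquivTensorQuotSMulTop x N (Localization.AtPrime q)).symm ≪≫ₗ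
      QuotSMulTop.congr (algebraMap A (Localization.AtPrime q) x) hf.equiv).symm ≪≫ₗ hf'.equiv

theorem algebraMap_mem_maximalIdeal (q : Ideal A) [q.IsPrime] (x : A) (hxq : x ∈ q) :
    algebraMap A (Localization.AtPrime q) x ∈ maximalIdeal (Localization.AtPrime q) :=
  (IsLocalization.AtPrime.to_map_mem_maximal_iff (Localization.AtPrime q) q x).mpr hxq

theorem dep_quot_add_one (q : Ideal A) [q.IsPrime] (x : A) (hxq : x ∈ q)
    (hreg : IsSMulRegular (LocalizedModule q.primeCompl N)
      (algebraMap A (Localization.AtPrime q) x)) :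
    dep (QuotSMulTop x N) q + 1 = dep N q := by
  have h := Groth.Agent.H29.CML.depth_quotSMulTop_add_one (A := Localization.AtPrime q)
    (LocalizedModule q.primeCompl N) (algebraMap A (Localization.AtPrime q) x)
    (algebraMap_mem_maximalIdeal q x hxq) hreg
  unfold dep
  rw [← h]
  unfold LocCoh.depth
  rw [Groth.Agent.H15.idealDepth_congr (quotEquiv N q x)]

theorem dm_quot_add_one (q : Ideal A) [q.IsPrime] (x : A) (hxq : x ∈ q)
    (hreg : IsSMulRegular (LocalizedModule q.primeCompl N)
      (algebraMap A (Localization.AtPrime q) x)) :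
    dm (QuotSMulTop x N) q + 1 = dm N q := by
  have h := Module.supportDim_quotSMulTop_succ_eq_supportDim (R := Localization.AtPrime q)
    (M := LocalizedModule q.primeCompl N) hreg (algebraMap_mem_maximalIdeal q x hxq)
  unfold dm
  rw [← h, Module.supportDim_eq_of_equiv (quotEquiv N q x)]

theorem dm_le_dm_quot_add_one (q : Ideal A) [q.IsPrime] (x : A) (hxq : x ∈ q) :
    dm N q ≤ dm (QuotSMulTop x N) q + 1 := by
  have h := Module.supportDim_le_supportDim_quotSMulTop_succ (R := Localization.AtPrime q)
    (M := LocalizedModule q.primeCompl N) (algebraMap_mem_maximalIdeal q x hxq)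
  unfold dm
  rwa [Module.supportDim_eq_of_equiv (quotEquiv N q x)] at h

end Groth.Agent.H58.GenDepth
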