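import Groth.Agent.H58.GenDepth.Quot
import Groth.Agent.H29.SpreadReg

/-!
# Regular and parameter elements, spreading out
-/

set_option autoImplicit false
set_option linter.unusedSectionVars false
set_option linter.style.haveILetI false
universe u

open IsLocalRing RingTheory.Sequence

namespace Groth.Agent.H58.GenDepth

variable {A : Type u} [CommRing A] [IsNoetherianRing A] (p : Ideal A) [hp : p.IsPrime]
variable (N : Type u) [AddCommGroup N] [Module A N] [Module.Finite A N]

omit [IsNoetherianRing A] [Module.Finite A N] in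
theorem mk_eq_zero_iff' {S : Submonoid A} (m : N) (s : S) :
    LocalizedModule.mk m s = 0 ↔ ∃ t : S, t • m = 0 := by
  rw [← LocalizedModule.zero_mk (1 : S), LocalizedModule.mk_eq]
  constructor
  · rintro ⟨u, hu⟩
    refine ⟨u, ?_⟩
    rw [one_smul, smul_zero, smul_zero] at hu
    exact hu
  · rintro ⟨t, ht⟩
    refine ⟨t, ?_⟩
    rw [one_smul, smul_zero, smul_zero]
    exact ht

omit [IsNoetherianRing A] [Module.Finite A N] in
theorem algebraMap_smul_mk (q : Ideal A) [q.IsPrime] (x : A) (m : N) (s : q.primeCompl) :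
    (algebraMap A (Localization.AtPrime q) x) • (LocalizedModule.mk m s) =
      LocalizedModule.mk (x • m) s := by
  rw [algebraMap_smul, LocalizedModule.smul'_mk]

/-- regularity of `x` on `N_p` spreads out -/
theorem gen_isSMulRegular (x : A)
    (h : IsSMulRegular (LocalizedModule p.primeCompl N)
      (algebraMap A (Localization.AtPrime p) x)) :
    Gen p (fun q _ => IsSMulRegular (LocalizedModule q.primeCompl N)
      (algebraMap A (Localization.AtPrime q) x)) := by
  let K : Submodule A N := LinearMap.ker (LinearMap.lsmul A N x)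
  haveI : IsNoetherian A N := isNoetherian_of_isNoetherianRing_of_finite A N
  haveI : Module.Finite A K := Module.IsNoetherian.finite A K
  have hKmem : ∀ m : N, m ∈ K ↔ x • m = 0 := fun m => by
    rw [LinearMap.mem_ker, LinearMap.lsmul_apply]
  have hKp : Subsingleton (LocalizedModule p.primeCompl K) := by
    rw [LocalizedModule.subsingleton_iff]
    intro k
    have h0 : (algebraMap A (Localization.AtPrime p) x) •
        (LocalizedModule.mk (k : N) (1 : p.primeCompl)) = 0 := by
      rw [algebraMap_smul_mk, (hKmem k).1 k.2, LocalizedModule.zero_mk]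
    have h1 := (isSMulRegular_iff_right_eq_zero_of_smul.1 h) _ h0
    obtain ⟨t, ht⟩ := (mk_eq_zero_iff' N (k : N) 1).1 h1
    exact ⟨t, t.2, Subtype.ext ht⟩
  refine (gen_subsingleton p K hKp).mono (fun q hq _ hKq => ?_)
  rw [isSMulRegular_iff_right_eq_zero_of_smul]
  intro y hy
  induction y using LocalizedModule.induction_on with
  | h m s =>
    rw [algebraMap_smul_mk, mk_eq_zero_iff'] at hy
    obtain ⟨t, ht⟩ := hy
    have htm : (t : A) • m ∈ K := by
      rw [hKmem, smul_comm]
      exact ht
    obtain ⟨r, hr, hrk⟩ := (LocalizedModule.subsingleton_iff.1 hKq) ⟨(t : A) • m, htm⟩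
    have hrk' : r • ((t : A) • m) = 0 := congrArg Subtype.val hrk
    rw [mk_eq_zero_iff']
    refine ⟨⟨r, hr⟩ * t, ?_⟩
    rw [Submonoid.smul_def, Submonoid.coe_mul, mul_smul]
    exact hrk'

/-- a regular element of `N_p` coming from `p`, when `depth N_p ≥ 1` -/
theorem exists_mem_isSMulRegular (hN : Nontrivial (LocalizedModule p.primeCompl N))
    (h : (1 : ℕ∞) ≤ dep N p) :
    ∃ x ∈ p, IsSMulRegular (LocalizedModule p.primeCompl N)
      (algebraMap A (Localization.AtPrime p) x) := by
  have hne := Groth.Agent.H29.CML.smul_top_ne_top (A := Localization.AtPrime p)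
    (LocalizedModule p.primeCompl N)
  obtain ⟨ts, hlen, hmem, hreg⟩ := Groth.Agent.H15.exists_isRegular_of_le_idealDepth
    (maximalIdeal (Localization.AtPrime p)) (LocalizedModule p.primeCompl N) hne 1
    (by exact_mod_cast h)
  obtain ⟨xs, hxl, hxp, hxreg⟩ := Groth.Agent.H29.SpreadReg.exists_list_of_isWeaklyRegular
    (q := p) ts N hreg.toIsWeaklyRegular hmem
  rw [hlen] at hxl
  obtain ⟨x, rfl⟩ := List.length_eq_one_iff.1 hxl
  refine ⟨x, hxp x (by simp), ?_⟩
  rw [List.map_singleton] at hxreg
  exact (isWeaklyRegular_singleton_iff _ _).1 hxreg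

end Groth.Agent.H58.GenDepth
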