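import Groth.Agent.H58.GenDepth.Reg
import Groth.Agent.H72.NormFlatDepth

/-!
# Modules whose support near `p` is `V(p)`: generic depth
-/

set_option autoImplicit false
set_option linter.unusedSectionVars false
set_option linter.style.haveILetI false
universe u

open IsLocalRing RingTheory.Sequence

namespace Groth.Agent.H58.GenDepth

variable {A : Type u} [CommRing A] [IsNoetherianRing A] (p : Ideal A) [hp : p.IsPrime]

/-- every point of the support lying under `p` is `p` -/
def SuppCond (X : Type u) [AddCommGroup X] [Module A X] : Prop :=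
  ∀ x ∈ Module.support A X, x.asIdeal ≤ p → x.asIdeal = p

/-- the depth of `X_q` is that of `(A/p)_q`, or `X_q = 0` -/
def PD (X : Type u) [AddCommGroup X] [Module A X] (q : Ideal A) [q.IsPrime] : Prop :=
  Groth.Agent.H72.NormFlatDepth.P (maximalIdeal (Localization.AtPrime q)) (dep (A ⧸ p) q)
    (LocalizedModule q.primeCompl X)

omit [IsNoetherianRing A] in
theorem localized_exact {N₁ N₂ N₃ : Type u} [AddCommGroup N₁] [Module A N₁] [AddCommGroup N₂]
    [Module A N₂] [AddCommGroup N₃] [Module A N₃] (S : Submonoid A) (f : N₁ →ₗ[A] N₂)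
    (g : N₂ →ₗ[A] N₃) (h : Function.Exact f g) :
    Function.Exact (LocalizedModule.map S f) (LocalizedModule.map S g) :=
  LocalizedModule.map_exact S f g h

/-- an `A`-linear equivalence induces an equivalence of localizations -/
noncomputable def localizedEquiv {N₁ N₂ : Type u} [AddCommGroup N₁] [Module A N₁] [AddCommGroup N₂]
    [Module A N₂] (S : Submonoid A) (e : N₁ ≃ₗ[A] N₂) :
    LocalizedModule S N₁ ≃ₗ[Localization S] LocalizedModule S N₂ :=
  LinearEquiv.ofBijective (LocalizedModule.map S e.toLinearMap)
    ⟨LocalizedModule.map_injective S _ e.injective, LocalizedModule.map_surjective S _ e.surjective⟩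

theorem gen_PD (X : Type u) [AddCommGroup X] [Module A X] [hX : Module.Finite A X] :
    SuppCond p X → Gen p (fun q _ => PD p X q) := by
  induction hX using IsNoetherianRing.induction_on_isQuotientEquivQuotientPrime A with
  | subsingleton N =>
    intro _
    exact Gen.of_forall (fun q hq _ => Groth.Agent.H72.NormFlatDepth.P_of_subsingleton _ _ _)
  | quotient N P e =>
    intro hS
    by_cases hPp : P.asIdeal = p
    · refine Gen.of_forall (fun q hq _ => ?_)
      have e' : N ≃ₗ[A] A ⧸ p := e.trans (Submodule.quotEquivOfEq _ _ hPp)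
      exact Groth.Agent.H72.NormFlatDepth.P_congr _ _ (localizedEquiv q.primeCompl e').symm
        (Or.inl rfl)
    · have hPmem : P ∈ Module.support A N := by
        rw [Module.mem_support_iff_of_finite]
        intro r hr
        have h1 : r • e.symm 1 = 0 := Module.mem_annihilator.1 hr _
        have h2 : e (r • e.symm 1) = 0 := by rw [h1, map_zero]
        rw [map_smul, LinearEquiv.apply_symm_apply] at h2
        have h3 : (Ideal.Quotient.mk P.asIdeal) r = 0 := by
          have h4 : r • (1 : A ⧸ P.asIdeal) = Ideal.Quotient.mk P.asIdeal r := by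
            rw [Algebra.smul_def, mul_one]
            rfl
          rw [← h4]
          exact h2
        exact Ideal.Quotient.eq_zero_iff_mem.1 h3
      have hnle : ¬ P.asIdeal ≤ p := fun hle => hPp (hS P hPmem hle)
      obtain ⟨f, hfP, hfp⟩ := Set.not_subset.1 hnle
      refine ⟨f, hfp, fun q hq _ hfq => ?_⟩
      have hsub : Subsingleton (LocalizedModule q.primeCompl N) := by
        rw [LocalizedModule.subsingleton_iff]
        intro m
        refine ⟨f, hfq, ?_⟩
        apply e.injective
        rw [map_smul, map_zero]
        obtain ⟨a, ha⟩ := Ideal.Quotient.mk_surjective (e m)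
        rw [← ha]
        change (Ideal.Quotient.mk P.asIdeal) (f * a) = 0
        exact Ideal.Quotient.eq_zero_iff_mem.2 (P.asIdeal.mul_mem_right a hfP)
      exact Groth.Agent.H72.NormFlatDepth.P_of_subsingleton _ _ _
  | exact N₁ N₂ N₃ f g hf hg hfg h₁ h₃ =>
    intro hS
    have hsupp := Module.support_of_exact hfg hf hg
    have hS₁ : SuppCond p N₁ := fun x hx => hS x (by rw [hsupp]; exact Or.inl hx)
    have hS₃ : SuppCond p N₃ := fun x hx => hS x (by rw [hsupp]; exact Or.inr hx)
    refine ((h₁ hS₁).and (h₃ hS₃)).mono (fun q hq _ h => ?_)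
    exact Groth.Agent.H72.NormFlatDepth.P_of_exact _ _
      (LocalizedModule.map q.primeCompl f) (LocalizedModule.map q.primeCompl g)
      (LocalizedModule.map_injective _ f hf) (LocalizedModule.map_surjective _ g hg)
      (localized_exact _ f g hfg) h.1 h.2

end Groth.Agent.H58.GenDepth
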