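import Groth.Agent.H58.GenDepth.Basic

/-!
# A topological criterion (Nagata) for closedness of specialization closures
-/

set_option autoImplicit false
set_option linter.unusedSectionVars false
set_option linter.style.haveILetI false
universe u

namespace Groth.Agent.H58.GenDepth

variable {A : Type u} [CommRing A] [IsNoetherianRing A]

/-- If every prime `y ∉ B` has a basic open neighbourhood in `V(y)` missing `B`, then the
generic points of `closure B` are in `B`. -/
theorem mem_of_mem_minimalPrimes_vanishingIdeal (B : Set (PrimeSpectrum A))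
    (h : ∀ y : PrimeSpectrum A, y ∉ B → ∃ f : A, f ∉ y.asIdeal ∧
      ∀ q : PrimeSpectrum A, y ≤ q → f ∉ q.asIdeal → q ∉ B)
    (y : PrimeSpectrum A) (hy : y.asIdeal ∈ (PrimeSpectrum.vanishingIdeal B).minimalPrimes) :
    y ∈ B := by
  classical
  by_contra hyB
  obtain ⟨f, hfy, hf⟩ := h y hyB
  set I := PrimeSpectrum.vanishingIdeal B with hI
  have hfin := Ideal.finite_minimalPrimes_of_isNoetherianRing A I
  set S : Finset (Ideal A) := hfin.toFinset.erase y.asIdeal with hS
  set I' : Ideal A := S.inf id with hI'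
  have hle : (y.asIdeal ⊔ Ideal.span {f}) ⊓ I' ≤ I := by
    intro x hx
    rw [hI, PrimeSpectrum.mem_vanishingIdeal]
    intro b hb
    have hIb : I ≤ b.asIdeal := by
      intro z hz
      rw [hI, PrimeSpectrum.mem_vanishingIdeal] at hz
      exact hz b hb
    obtain ⟨y', hy'min, hy'b⟩ := Ideal.exists_minimalPrimes_le hIb
    by_cases hyy : y' = y.asIdeal
    · have hyb : y ≤ b := by
        rw [← PrimeSpectrum.asIdeal_le_asIdeal, ← hyy]
        exact hy'b
      have hfb : f ∈ b.asIdeal := by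
        by_contra hfb
        exact hf b hyb hfb hb
      have : y.asIdeal ⊔ Ideal.span {f} ≤ b.asIdeal :=
        sup_le hyb ((Ideal.span_singleton_le_iff_mem _).2 hfb)
      exact this hx.1
    · have hmem : y' ∈ S := by
        rw [hS, Finset.mem_erase]
        exact ⟨hyy, hfin.mem_toFinset.2 hy'min⟩
      have h1 : I' ≤ y' := Finset.inf_le (f := id) hmem
      exact hy'b (h1 hx.2)
  have hIy : I ≤ y.asIdeal := hy.1.2
  rcases (Ideal.IsPrime.inf_le y.2).1 (hle.trans hIy) with h1 | h1
  · exact hfy (h1 (Ideal.mem_sup_right (Ideal.subset_span rfl)))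
  · rw [hI', Ideal.IsPrime.inf_le' y.2] at h1
    obtain ⟨y', hy'S, hy'y⟩ := h1
    rw [hS, Finset.mem_erase] at hy'S
    have hy'min : y' ∈ I.minimalPrimes := hfin.mem_toFinset.1 hy'S.2
    have : y.asIdeal ≤ y' := hy.2 hy'min.1 hy'y
    exact hy'S.1 (le_antisymm hy'y this)

/-- **Nagata-type criterion**: the specialization closure of `B` is closed if every prime `y ∉ B`
has a basic open neighbourhood in `V(y)` missing `B`. -/
theorem isClosed_specClosure (B : Set (PrimeSpectrum A))
    (h : ∀ y : PrimeSpectrum A, y ∉ B → ∃ f : A, f ∉ y.asIdeal ∧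
      ∀ q : PrimeSpectrum A, y ≤ q → f ∉ q.asIdeal → q ∉ B) :
    IsClosed {x : PrimeSpectrum A | ∃ b ∈ B, b ≤ x} := by
  have heq : {x : PrimeSpectrum A | ∃ b ∈ B, b ≤ x} =
      PrimeSpectrum.zeroLocus (PrimeSpectrum.vanishingIdeal B : Set A) := by
    ext x
    rw [Set.mem_ofPred_eq, PrimeSpectrum.mem_zeroLocus]
    constructor
    · rintro ⟨b, hb, hbx⟩ z hz
      rw [SetLike.mem_coe, PrimeSpectrum.mem_vanishingIdeal] at hz
      exact hbx (hz b hb)
    · intro hx
      obtain ⟨y', hy'min, hy'x⟩ := Ideal.exists_minimalPrimes_le (J := x.asIdeal) hx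
      haveI : y'.IsPrime := hy'min.1.1
      exact ⟨⟨y', inferInstance⟩,
        mem_of_mem_minimalPrimes_vanishingIdeal B h ⟨y', inferInstance⟩ hy'min, hy'x⟩
  rw [heq]
  exact PrimeSpectrum.isClosed_zeroLocus _

/-- **Nagata's openness criterion**. -/
theorem isOpen_of_gen (U : Set (PrimeSpectrum A))
    (hgen : ∀ x y : PrimeSpectrum A, x ≤ y → y ∈ U → x ∈ U)
    (h : ∀ y : PrimeSpectrum A, y ∈ U → ∃ f : A, f ∉ y.asIdeal ∧
      ∀ q : PrimeSpectrum A, y ≤ q → f ∉ q.asIdeal → q ∈ U) :
    IsOpen U := by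
  rw [← isClosed_compl_iff]
  have h1 := isClosed_specClosure (A := A) Uᶜ (by
    intro y hy
    rw [Set.notMem_compl_iff] at hy
    obtain ⟨f, hf, hq⟩ := h y hy
    exact ⟨f, hf, fun q hyq hfq => by rw [Set.notMem_compl_iff]; exact hq q hyq hfq⟩)
  have heq : {x : PrimeSpectrum A | ∃ b ∈ Uᶜ, b ≤ x} = Uᶜ := by
    ext x
    constructor
    · rintro ⟨b, hb, hbx⟩ hx
      exact hb (hgen b x hbx hx)
    · intro hx
      exact ⟨x, hx, le_rfl⟩
  rw [heq] at h1
  exact h1

end Groth.Agent.H58.GenDepth
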